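import Mathlib
import Cfsg.Agent.Lib.Comput.Check3
import Cfsg.Agent.Lib.J2.Q.Data

/-! generated by tools/cgt -/

set_option autoImplicit false
set_option maxRecDepth 100000
set_option Elab.async false

namespace CfsgLib.J2.Q

open CfsgLib.Comput

def R6_0 : RepC := ⟨17, 1, [],
  []⟩
def S6_0 : GenC := ⟨17, [],
  [(0, 0, 0, 1, 0), (0, 1, 0, 0, 0)], 0⟩
def L6 : Level := ⟨0x0, 0x10000, [], 1, 1, 0, 2, [R6_0], [S6_0]⟩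
def X6 : Ext := []

def R5_0 : RepC := ⟨16, 1, [(17, 17)],
  [(1, 1, [1])]⟩
def S5_0 : GenC := ⟨16, [(17, 17)],
  [(0, 0, 0, 1, 0), (0, 1, 0, 0, 17)], 0⟩
def L5 : Level := ⟨0x10000, 0x1c000, [17], 2, 24, 0, 2, [R5_0], [S5_0]⟩
def X5 : Ext := [(14, 16, 0)]

def R4_0 : RepC := ⟨11, 1, [(16, 0x1011)],
  [(75, 3, [1])]⟩
def S4_0 : GenC := ⟨11, [(16, 0x1011)],
  [(0, 0, 0, 1, 0), (0, 1, 0, 0, 0)], 0⟩
def L4 : Level := ⟨0x1c000, 0x1e400, [16, 17], 4, 7, 0, 2, [R4_0], [S4_0]⟩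
def X4 : Ext := [(13, 0, 0xb1011)]

def R3_0 : RepC := ⟨13, 2, [(17, 0xb10), (0xb10, 17)],
  [(6, 1, [1, 2])]⟩
def S3_0 : GenC := ⟨13, [(17, 0xb10)],
  [(0, 0, 0, 1, 0), (0, 1, 0, 0, 0xb1011), (16, 1, 16, 1, 16)], 0⟩
def L3 : Level := ⟨0x1e400, 0x1fc00, [11, 16, 17], 8, 14, 0, 3, [R3_0], [S3_0]⟩
def X3 : Ext := [(11, 13, 0)]

def R2_0 : RepC := ⟨8, 6, [(0xd11, 0xb1011), (0xb1011, 0xd11)],
  [(72, 1, [1, 2])]⟩
def S2_0 : GenC := ⟨8, [(0xd0b10, 0xd0b10), (0xd11, 0xb1011)],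
  [(0, 0, 0, 1, 0), (0, 1, 0, 0, 0), (16, 1, 16, 1, 0x100d10), (17, 1, 17, 1, 17)], 1⟩
def L2 : Level := ⟨0x1fc00, 0x1ff80, [13, 11, 16, 17], 24, 8, 0, 7, [R2_0], [S2_0]⟩
def X2 : Ext := [(8, 0, 0xd10080d1011), (9, 9, 0)]

def R1_0 : RepC := ⟨19, 7, [(0x80b1011, 0x80b1011), (0x80d, 0xa0b)],
  [(19, 4, [1, 2])]⟩
def R1_1 : RepC := ⟨0x81112, 7, [(0x1011, 0x11080b10), (0x100d11, 0x80d)],
  [(98, 4, [1, 2])]⟩
def R1_2 : RepC := ⟨5, 21, [(0x8100d10, 0x1008100d10), (8, 0x10080d0b)],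
  [(40, 2, [1, 2])]⟩
def S1_0 : GenC := ⟨18, [(0x80d, 0xa0b), (0x811, 0xa100d0b1011)],
  [(0, 0, 0x1108, 2, 0), (0, 3, 0x80f, 3, 0x10090d), (16, 3, 0, 2, 0x10090d0b1011), (0, 1, 0, 0, 0), (0, 2, 16, 3, 0x90d1011), (10, 3, 0, 1, 0x100810), (9, 1, 0xa0b, 3, 0x10091011), (9, 2, 16, 1, 0xd0b11)], 3⟩
def L1 : Level := ⟨0x1ff80, 0x7fff0, [8, 13, 11, 16, 17], 168, 5, 0, 36, [R1_0, R1_1, R1_2], [S1_0]⟩
def X1 : Ext := [(18, 18, 0), (4, 0, 0x91212100810), (5, 5, 0), (6, 0, 0x100d0b)]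

def R0_0 : RepC := ⟨21, 36, [(0x100910, 0x101212100d), (0x9100d, 0xf1212100d10)],
  [(66, 6, [1, 2]), (55, 3, [1])]⟩
def R0_1 : RepC := ⟨3, 63, [(0x101310090d, 0x101310090d), (0x7051108, 0xb050d10)],
  [(51, 6, [1, 2]), (60, 2, [1])]⟩
def S0_0 : GenC := ⟨20, [(0x1008, 0x1212100d1011), (0x80d0b, 0xa061108100d1011)],
  [(0, 0, 0x81112, 1, 0x8111208100d10), (0, 2, 0x710, 2, 0xd0b), (5, 2, 0x1013, 1, 0x110509100d), (0, 1, 0, 0, 0), (18, 1, 0x71212, 1, 0x1311080d10), (6, 1, 0x130d, 2, 0x130910), (19, 1, 0x806, 1, 0xf120a0d0b11)], 5⟩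
def L0 : Level := ⟨0x7fff0, 0x1fffff, [18, 8, 13, 11, 16, 17], 6048, 0, 0, 100, [R0_0, R0_1], [S0_0]⟩
def X0 : Ext := [(20, 20, 0), (0, 0, 0x10051009100d1011), (1, 0, 0x10080d0b), (2, 0, 0x121508141005121009100d0b1011), (3, 0, 0x314)]

def top : List ℕ := [1, 2, 3, 4]
def gs : List ℕ := [20, 18, 8, 13, 11, 16, 17]
def XD : Ext := [(4, 0, 0x30401030204020104020304), (5, 5, 0), (6, 0, 0x401020103040204010403020402030403010204), (7, 0, 0x5050507060607050507060606), (8, 0, 0x6070606060706), (9, 9, 0), (10, 0, 0x80a0a08090908), (11, 0, 0x909080a), (12, 12, 0), (13, 0, 0xd0d), (14, 0, 0xb0e), (15, 15, 0), (16, 0, 0x1010), (17, 0, 0x60606), (18, 18, 0), (19, 0, 0x304), (20, 20, 0)]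
def MX : Level.MaxC := [[(0x81112, [0x8111208100d10])], [(0x811130f, [16, 0x7121108])]]

/-- all the equations of the certificate -/
structure Eqs {G : Type*} [Group G] (g : ℕ → G) : Prop where
  l6 : AllHold g L6.eqns
  x6 : AllHold g X6.eqns
  l5 : AllHold g L5.eqns
  x5 : AllHold g X5.eqns
  l4 : AllHold g L4.eqns
  x4 : AllHold g X4.eqns
  l3 : AllHold g L3.eqns
  x3 : AllHold g X3.eqns
  l2 : AllHold g L2.eqns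
  x2 : AllHold g X2.eqns
  l1 : AllHold g L1.eqns
  x1 : AllHold g X1.eqns
  l0 : AllHold g L0.eqns
  x0 : AllHold g X0.eqns
  xd : AllHold g XD.eqns
  mx : AllHold g (L0.maxEqns MX)

end CfsgLib.J2.Q
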